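import Mathlib
import Cfsg.Agent.OddHalf.LongSL.QuatLift
import Cfsg.Agent.S0261
import Cfsg.Agent.ChevalleyStructure.SL2Hom
import Cfsg.Agent.OddHalf.LongSL.Abs
import Cfsg.Agent.OddHalf.LieOddFam
import Cfsg.Agent.OddHalf.LongSL.Tw_m3
import Cfsg.Agent.OddHalf.LongSL.Orth
import Cfsg.Agent.FastGrp
import Cfsg.Agent.Prune
set_option linter.all false
prune_inst 0x7f00000000000000000000000000000000000000000000000000000000000000000000000000000000000000000000000000000000000000000000000000000000000000000000000000000000000000003fffffffffffffffffffffffffffbeffbdffffffff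
open scoped Cfsg.Agent.FastGrp

-- merged: Cfsg.Agent.OddHalf.LongSL.QuatOdd
section

/-!
# Central 2-extensions of groups with quaternion Sylow 2-subgroups, generated by elements of odd order, are trivial
-/

set_option autoImplicit false

namespace Cfsg.Agent.OddHalf.LongSL

open Subgroup
open scoped commutatorElement

/-- central elements of a Sylow subgroup of a group generated by elements of odd order lie in the derived group of the
Sylow 2-subgroup -/
theorem mem_commutator_of_odd {G : Type*} [Group G] [Finite G] (P : Subgroup G)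
    (hP : IsPGroup 2 P) (hi : ¬ 2 ∣ P.index) (hG : _root_.Subgroup.closure {g : G | Odd (orderOf g)} = ⊤) {z : G} (hz : z ∈ P)
    (hzc : z ∈ center G) : (⟨z, hz⟩ : P) ∈ commutator P := by
  have hfi : P.FiniteIndex := inferInstance
  have h1 := TwoFusion.QuatCover.transfer_of_mem_center (Abelianization.of (G := ↥P)) z hzc hz
  have hA : ∀ a : Abelianization ↥P, ∃ k : ℕ, a ^ 2 ^ k = 1 := by
    intro a
    obtain ⟨x, hx⟩ := QuotientGroup.mk'_surjective (commutator ↥P) a
    have hx' : Abelianization.of x = a := hx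
    obtain ⟨k, hk⟩ := hP x
    exact ⟨k, by rw [← hx', ← map_pow, hk, map_one]⟩
  have hall : ∀ g : G, MonoidHom.transfer (H := P) (Abelianization.of (G := ↥P)) g = 1 := by
    intro g
    have h3 : g ∈ (MonoidHom.transfer (H := P) (Abelianization.of (G := ↥P))).ker := by
      have h4 : _root_.Subgroup.closure {g : G | Odd (orderOf g)} ≤ (MonoidHom.transfer (H := P) (Abelianization.of (G := ↥P))).ker := by
        rw [closure_le]
        intro x hx
        rw [SetLike.mem_coe, MonoidHom.mem_ker]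
        obtain ⟨k, hk⟩ := hA (MonoidHom.transfer (H := P) (Abelianization.of (G := ↥P)) x)
        have h5 := orderOf_map_dvd (MonoidHom.transfer (H := P) (Abelianization.of (G := ↥P))) x
        have h6 := orderOf_dvd_of_pow_eq_one hk
        have h7 : Nat.Coprime (orderOf x) (2 ^ k) := Nat.Coprime.pow_right k (Nat.coprime_two_right.2 hx)
        have h8 := Nat.dvd_gcd h5 h6
        rw [h7, Nat.dvd_one, orderOf_eq_one_iff] at h8
        exact h8
      rw [hG] at h4
      exact h4 trivial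
    exact h3
  have h2 := hall z
  rw [h2] at h1
  obtain ⟨n, hn⟩ := hP ⟨z, hz⟩
  have h3 : (Abelianization.of (G := ↥P) ⟨z, hz⟩) ^ 2 ^ n = 1 := by
    rw [← map_pow, hn, map_one]
  have hcop : (2 ^ n).Coprime P.index := by
    apply Nat.Coprime.pow_left
    exact (Nat.Prime.coprime_iff_not_dvd Nat.prime_two).mpr hi
  have h5 := Nat.dvd_gcd (orderOf_dvd_of_pow_eq_one h3) (orderOf_dvd_of_pow_eq_one h1.symm)
  rw [hcop, Nat.dvd_one, orderOf_eq_one_iff] at h5
  rwa [← Abelianization.ker_of, MonoidHom.mem_ker]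

/-- **Central extensions, generated by elements of odd order, of groups with quaternion Sylow 2-subgroups.** -/
theorem ker_eq_bot_of_odd {E L : Type*} [Group E] [Finite E] [Group L]
    (hE : _root_.Subgroup.closure {g : E | Odd (orderOf g)} = ⊤) (π : E →* L)
    (hπ : Function.Surjective π) (hc : π.ker ≤ center E) (h2 : IsPGroup 2 ↥π.ker) (Q : Sylow 2 L) {n : ℕ}
    [NeZero n] (e : ↥(Q : Subgroup L) ≃* QuaternionGroup n) : π.ker = ⊥ := by
  have hfL : Finite L := Finite.of_surjective π hπ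
  set P : Subgroup E := (Q : Subgroup L).comap π with hPdef
  have hker : π.ker ≤ P := fun x hx => by
    rw [hPdef, mem_comap, MonoidHom.mem_ker.1 hx]; exact one_mem _
  have hPp : IsPGroup 2 ↥P := by
    rintro ⟨x, hx⟩
    obtain ⟨k, hk⟩ := Q.2 ⟨π x, hx⟩
    have h3 : π (x ^ 2 ^ k) = 1 := by rw [map_pow]; exact congrArg Subtype.val hk
    obtain ⟨l, hl⟩ := h2 ⟨x ^ 2 ^ k, h3⟩
    refine ⟨k + l, ?_⟩
    apply Subtype.ext
    have h4 : (x ^ 2 ^ k) ^ 2 ^ l = 1 := congrArg Subtype.val hl
    rw [← pow_mul, ← pow_add] at h4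
    exact h4
  have hPi : ¬ 2 ∣ P.index := by
    rw [hPdef, index_comap_of_surjective _ hπ]
    exact Q.not_dvd_index
  -- lifts
  obtain ⟨X, hX⟩ := hπ (e.symm (QuaternionGroup.a 1) : L)
  obtain ⟨Y, hY⟩ := hπ (e.symm (QuaternionGroup.xa 0) : L)
  have hcen : ∀ z : E, π z = 1 → ∀ g : E, g * z = z * g := fun z hz g =>
    mem_center_iff.1 (hc (MonoidHom.mem_ker.2 hz)) g
  have hkey : ∀ q : QuaternionGroup n, ∀ g : E, π g = (e.symm q : L) → ∃ (k : ℤ) (z : E),
      (∀ g : E, g * z = z * g) ∧ π z = 1 ∧ (g = X ^ k * z ∨ g = Y * X ^ k * z) := by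
    intro q g hg
    have hXk : ∀ k : ℕ, π (X ^ k) = (e.symm (QuaternionGroup.a (k : ZMod (2 * n))) : L) := by
      intro k
      rw [map_pow, hX, ← SubmonoidClass.coe_pow, ← map_pow]
      congr 2
      exact QuaternionGroup.a_one_pow k
    rcases q with i | i
    · have h3 : π (X ^ i.val) = π g := by
        rw [hXk, hg, ZMod.natCast_val, ZMod.cast_id', id]
      have h4 : π ((X ^ i.val)⁻¹ * g) = 1 := by rw [map_mul, map_inv, h3, inv_mul_cancel]
      exact ⟨i.val, (X ^ i.val)⁻¹ * g, hcen _ h4, h4, Or.inl (by rw [zpow_natCast]; group)⟩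
    · have h3 : π (Y * X ^ i.val) = π g := by
        rw [map_mul, hXk, hY, hg, ZMod.natCast_val, ZMod.cast_id', id, ← coe_mul, ← map_mul,
          QuaternionGroup.xa_mul_a, zero_add]
      have h4 : π ((Y * X ^ i.val)⁻¹ * g) = 1 := by rw [map_mul, map_inv, h3, inv_mul_cancel]
      exact ⟨i.val, (Y * X ^ i.val)⁻¹ * g, hcen _ h4, h4, Or.inr (by rw [zpow_natCast]; group)⟩
  obtain ⟨c, hc1, hYX⟩ : ∃ c : E, π c = 1 ∧ Y * X * Y⁻¹ = X⁻¹ * c := by
    refine ⟨X * (Y * X * Y⁻¹), ?_, by group⟩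
    rw [map_mul, map_mul, map_mul, map_inv, hX, hY, ← coe_inv, ← coe_mul, ← coe_mul, ← coe_mul, ← map_inv,
      ← map_mul, ← map_mul, ← map_mul]
    have : (QuaternionGroup.a 1 : QuaternionGroup n) * (QuaternionGroup.xa 0 * QuaternionGroup.a 1 *
        (QuaternionGroup.xa 0)⁻¹) = 1 := by
      rw [← mul_assoc, mul_inv_eq_one, QuaternionGroup.xa_mul_a, QuaternionGroup.a_mul_xa]
      congr 1
      ring
    rw [this, map_one, coe_one]
  obtain ⟨d, hd1, hYY⟩ : ∃ d : E, π d = 1 ∧ Y * Y = X ^ n * d := by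
    refine ⟨(X ^ n)⁻¹ * (Y * Y), ?_, by group⟩
    rw [map_mul, map_mul, map_inv, map_pow, hX, hY, ← SubmonoidClass.coe_pow, ← coe_inv, ← coe_mul, ← coe_mul,
      ← map_pow, ← map_inv, ← map_mul, ← map_mul]
    have : ((QuaternionGroup.a 1 : QuaternionGroup n) ^ n)⁻¹ * (QuaternionGroup.xa 0 * QuaternionGroup.xa 0) = 1 := by
      rw [QuaternionGroup.a_one_pow, QuaternionGroup.xa_mul_xa, sub_zero, add_zero, inv_mul_cancel]
    rw [this, map_one, coe_one]
  have hcc := hcen c hc1
  have hdd := hcen d hd1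
  have hcX : Commute X c := hcc X
  -- `X ^ (2 n) = c ^ n`
  have hX2 : X ^ n * X ^ n = c ^ n := by
    have h3 : Y * X ^ n * Y⁻¹ = X⁻¹ ^ n * c ^ n := by
      rw [← conj_pow, hYX, (hcX.inv_left).mul_pow]
    have h4 : X ^ n = Y * Y * d⁻¹ := by rw [hYY]; group
    have h5 : Y * X ^ n * Y⁻¹ = X ^ n := by
      have h6 : Y * d⁻¹ = d⁻¹ * Y := by
        have := hdd (Y⁻¹)
        have h7 := congrArg (·⁻¹) this
        simpa only [mul_inv_rev, _root_.inv_inv] using h7.symm
      rw [h4]
      calc Y * (Y * Y * d⁻¹) * Y⁻¹ = Y * Y * (Y * d⁻¹) * Y⁻¹ := by group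
        _ = Y * Y * d⁻¹ := by rw [h6]; group
    rw [h5, inv_pow] at h3
    calc X ^ n * X ^ n = X ^ n * ((X ^ n)⁻¹ * c ^ n) := by rw [← h3]
      _ = c ^ n := by group
  -- the kernel
  rw [eq_bot_iff]
  intro z hz
  have hz1 : π z = 1 := hz
  have hzP : z ∈ P := hker hz
  have h3 := mem_commutator_of_odd P hPp hPi hE hzP (hc hz)
  have h4 : z ∈ zpowers (X ^ (-2 : ℤ) * c) := by
    have h5 : (commutator ↥P).map P.subtype ≤ zpowers (X ^ (-2 : ℤ) * c) := by
      rw [_root_.commutator_def, map_commutator, commutator_le]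
      rintro _ ⟨g, -, rfl⟩ _ ⟨h, -, rfl⟩
      obtain ⟨k, w, hw, -, hg⟩ := hkey (e ⟨π g.1, g.2⟩) g.1 (by rw [MulEquiv.symm_apply_apply])
      obtain ⟨k', w', hw', -, hh⟩ := hkey (e ⟨π h.1, h.2⟩) h.1 (by rw [MulEquiv.symm_apply_apply])
      exact commutator_mem_zpowers hcc hYX ⟨k, w, hw, hg⟩ ⟨k', w', hw', hh⟩
    exact h5 ⟨_, h3, rfl⟩
  obtain ⟨l, hl⟩ := h4
  have hl' : X ^ (-2 * l) * c ^ l = z := by
    rw [← hl]
    show X ^ (-2 * l) * c ^ l = (X ^ (-2 : ℤ) * c) ^ l
    rw [Commute.mul_zpow (hcX.zpow_left _), ← zpow_mul]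
  have h5 : π (X ^ (-2 * l)) = 1 := by
    have := congrArg π hl'
    rw [map_mul, map_zpow π c, hc1, one_zpow, mul_one, hz1] at this
    exact this
  have h6 : ((2 * n : ℕ) : ℤ) ∣ -2 * l := by
    rw [← QuaternionGroup.orderOf_a_one (n := n), orderOf_dvd_iff_zpow_eq_one]
    rw [map_zpow, hX] at h5
    have h7 : (e.symm ((QuaternionGroup.a 1 : QuaternionGroup n) ^ (-2 * l)) : L) = 1 := by
      rw [map_zpow, SubgroupClass.coe_zpow]; exact h5
    have h8 : e.symm ((QuaternionGroup.a 1 : QuaternionGroup n) ^ (-2 * l)) = 1 := Subtype.ext h7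
    exact (map_eq_one_iff e.symm e.symm.injective).1 h8
  obtain ⟨m, hm⟩ := h6
  have h7 : l = n * (-m) := by
    push_cast at hm
    linarith
  rw [mem_bot, ← hl', h7]
  have h8 : X ^ (-2 * (n * (-m)) : ℤ) = (X ^ n * X ^ n) ^ m := by
    rw [← pow_add, ← zpow_natCast, ← zpow_mul]
    congr 1; push_cast; ring
  rw [h8, hX2, zpow_mul, zpow_neg, zpow_natCast, mul_inv_cancel]

end Cfsg.Agent.OddHalf.LongSL

end

-- merged: Cfsg.Agent.OddHalf.LongSL.LiftAll
section

/-!
# Long root `SL₂` subgroups lift to central extensions by 2-groups, `q = 3` included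
-/

set_option autoImplicit false

namespace Cfsg.Agent.OddHalf.LongSL

open Subgroup Cfsg.Agent.ChevalleyStructure
open scoped commutatorElement

theorem up_pow {F : Type*} [Field F] (t : F) (n : ℕ) : (SL2Hom.up t) ^ n = SL2Hom.up ((n : F) * t) := by
  induction n with
  | zero =>
    rw [pow_zero, Nat.cast_zero, zero_mul]
    apply Subtype.ext
    ext i j
    (revert i j; simp only [SL2Hom.up, _root_.Fin.forall_fin_succ, _root_.Matrix.SpecialLinearGroup.coe_one, _root_.Matrix.of_apply, _root_.Matrix.cons_val', _root_.Matrix.cons_val_fin_one, Fin.isValue, _root_.Matrix.cons_val_zero, _root_.Matrix.cons_val_succ, _root_.IsEmpty.forall_iff, _root_.and_true, _root_.Matrix.one_apply_eq, Nat.reduceAdd, _root_.Fin.succ_zero_eq_one, _root_.ne_eq, _root_.zero_ne_one, _root_.not_false_eq_true, _root_.Matrix.one_apply_ne, _root_.and_self, _root_.Fin.succ_ne_zero, _root_.true_and])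
  | succ n ih =>
    rw [pow_succ, ih]
    apply Subtype.ext
    show (SL2Hom.up ((n : F) * t)).1 * (SL2Hom.up t).1 = (SL2Hom.up (((n + 1 : ℕ) : F) * t)).1
    ext i j
    (revert i j; simp only [SL2Hom.up, Matrix.mul_apply, Fin.sum_univ_two, _root_.Fin.forall_fin_succ, _root_.Matrix.of_apply, _root_.Matrix.cons_val', _root_.Matrix.cons_val_fin_one, Fin.isValue, _root_.Matrix.cons_val_zero, _root_.Matrix.cons_val_one, _root_.Nat.cast_add, _root_.Nat.cast_one, _root_.mul_one, _root_.MulZeroClass.mul_zero, _root_.add_zero, _root_.Matrix.cons_val_succ, _root_.forall_const, _root_.true_and, _root_.one_mul, _root_.MulZeroClass.zero_mul, _root_.zero_add, _root_.implies_true, _root_.and_true]) <;> (repeat' with_reducible apply And.intro) <;> ring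

theorem lo_pow {F : Type*} [Field F] (t : F) (n : ℕ) : (SL2Hom.lo t) ^ n = SL2Hom.lo ((n : F) * t) := by
  induction n with
  | zero =>
    rw [pow_zero, Nat.cast_zero, zero_mul]
    apply Subtype.ext
    ext i j
    (revert i j; simp only [SL2Hom.lo, _root_.Fin.forall_fin_succ, _root_.Matrix.SpecialLinearGroup.coe_one, _root_.Matrix.of_apply, _root_.Matrix.cons_val', _root_.Matrix.cons_val_fin_one, Fin.isValue, _root_.Matrix.cons_val_zero, _root_.Matrix.cons_val_succ, _root_.IsEmpty.forall_iff, _root_.and_true, _root_.Matrix.one_apply_eq, Nat.reduceAdd, _root_.Fin.succ_zero_eq_one, _root_.ne_eq, _root_.zero_ne_one, _root_.not_false_eq_true, _root_.Matrix.one_apply_ne, _root_.and_self, _root_.Fin.succ_ne_zero, _root_.true_and])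
  | succ n ih =>
    rw [pow_succ, ih]
    apply Subtype.ext
    show (SL2Hom.lo ((n : F) * t)).1 * (SL2Hom.lo t).1 = (SL2Hom.lo (((n + 1 : ℕ) : F) * t)).1
    ext i j
    (revert i j; simp only [SL2Hom.lo, Matrix.mul_apply, Fin.sum_univ_two, _root_.Fin.forall_fin_succ, _root_.Matrix.of_apply, _root_.Matrix.cons_val', _root_.Matrix.cons_val_fin_one, Fin.isValue, _root_.Matrix.cons_val_zero, _root_.Matrix.cons_val_one, _root_.Nat.cast_add, _root_.Nat.cast_one, _root_.mul_one, _root_.Matrix.cons_val_succ, _root_.MulZeroClass.mul_zero, _root_.zero_add, _root_.implies_true, _root_.and_true, _root_.MulZeroClass.zero_mul, _root_.add_zero, _root_.one_mul, _root_.forall_const, _root_.true_and]) <;> (repeat' with_reducible apply And.intro) <;> ring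

/-- `SL₂` of a finite field of odd order is generated by its elements of odd order. -/
theorem closure_odd_SL {F : Type*} [Field F] [Fintype F] (hF : Odd (Fintype.card F)) :
    _root_.Subgroup.closure {g : Matrix.SpecialLinearGroup (Fin 2) F | Odd (orderOf g)} = ⊤ := by
  obtain ⟨p, hpc⟩ := CharP.exists F
  have hpp : p.Prime := (CharP.char_is_prime_or_zero F p).resolve_right (CharP.char_ne_zero_of_finite F p)
  have hp2 : Odd p := by
    rcases hpp.eq_two_or_odd' with rfl | h
    · exact absurd (by exact_mod_cast CharP.cast_eq_zero F 2) (two_ne_of_odd hF)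
    · exact h
  rw [eq_top_iff]
  intro g _
  refine (closure_le _).2 ?_ (SL2Hom.mem_closure_SL2 g)
  rintro x (⟨t, rfl⟩ | ⟨t, rfl⟩)
  · refine _root_.Subgroup.subset_closure ?_
    have h1 : (SL2Hom.up t) ^ p = 1 := by
      rw [up_pow, CharP.cast_eq_zero, zero_mul]
      apply Subtype.ext
      ext i j
      (revert i j; simp only [SL2Hom.up, _root_.Fin.forall_fin_succ, _root_.Matrix.of_apply, _root_.Matrix.cons_val', _root_.Matrix.cons_val_fin_one, _root_.Matrix.SpecialLinearGroup.coe_one, Fin.isValue, _root_.Matrix.cons_val_zero, _root_.Matrix.cons_val_succ, _root_.IsEmpty.forall_iff, _root_.and_true, _root_.Matrix.one_apply_eq, Nat.reduceAdd, _root_.Fin.succ_zero_eq_one, _root_.ne_eq, _root_.zero_ne_one, _root_.not_false_eq_true, _root_.Matrix.one_apply_ne, _root_.and_self, _root_.Fin.succ_ne_zero, _root_.true_and])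
    exact Odd.of_dvd_nat hp2 (orderOf_dvd_of_pow_eq_one h1)
  · refine _root_.Subgroup.subset_closure ?_
    have h1 : (SL2Hom.lo t) ^ p = 1 := by
      rw [lo_pow, CharP.cast_eq_zero, zero_mul]
      apply Subtype.ext
      ext i j
      (revert i j; simp only [SL2Hom.lo, _root_.Fin.forall_fin_succ, _root_.Matrix.of_apply, _root_.Matrix.cons_val', _root_.Matrix.cons_val_fin_one, _root_.Matrix.SpecialLinearGroup.coe_one, Fin.isValue, _root_.Matrix.cons_val_zero, _root_.Matrix.cons_val_succ, _root_.IsEmpty.forall_iff, _root_.and_true, _root_.Matrix.one_apply_eq, Nat.reduceAdd, _root_.Fin.succ_zero_eq_one, _root_.ne_eq, _root_.zero_ne_one, _root_.not_false_eq_true, _root_.Matrix.one_apply_ne, _root_.and_self, _root_.Fin.succ_ne_zero, _root_.true_and])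
    exact Odd.of_dvd_nat hp2 (orderOf_dvd_of_pow_eq_one h1)

/-- **The lift**: `HasLong q` passes to central extensions by 2-groups (`q = 3` included). -/
theorem HasLong.lift_all {K X : Type*} [Group K] [Finite K] [Group X] (π : K →* X) (hπ : Function.Surjective π)
    (hc : π.ker ≤ center K) (h2 : IsPGroup 2 ↥π.ker) {q : ℕ} (h : HasLong q X) : HasLong q K := by
  obtain ⟨j, J, hj1, hj2, hj3, hj4, F, i1, i2, hF, hqo, ⟨e⟩⟩ := h
  set P : Subgroup K := J.comap π with hP
  have hPJ : P.map π = J := map_comap_eq_self_of_surjective hπ J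
  set S : Set K := {g | g ∈ P ∧ Odd (orderOf g)} with hS
  set E : Subgroup K := _root_.Subgroup.closure S with hE
  have hEP : E ≤ P := by
    rw [hE, closure_le]
    intro x hx
    exact hx.1
  have hEN : ∀ g ∈ P, ∀ x ∈ E, g * x * g⁻¹ ∈ E := by
    intro g hg x hx
    have h3 : E ≤ E.comap (MulAut.conj g).toMonoidHom := by
      conv_lhs => rw [hE]
      rw [closure_le]
      intro y hy
      refine _root_.Subgroup.subset_closure ⟨?_, ?_⟩
      · exact mul_mem (mul_mem hg hy.1) (inv_mem hg)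
      · have h4 : orderOf ((MulAut.conj g) y) = orderOf y :=
          orderOf_injective (MulAut.conj g).toMonoidHom (MulAut.conj g).injective y
        show Odd (orderOf ((MulAut.conj g) y))
        rw [h4]; exact hy.2
    exact h3 hx
  have hEJ : E.map π = J := by
    apply le_antisymm
    · rw [← hPJ]; exact map_mono hEP
    · have h3 : (⊤ : Subgroup ↥J) ≤ (E.map π).comap J.subtype := by
        have h4 : (_root_.Subgroup.closure {g : Matrix.SpecialLinearGroup (Fin 2) F | Odd (orderOf g)}).map e.symm.toMonoidHom ≤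
            (E.map π).comap J.subtype := by
          rw [map_le_iff_le_comap, closure_le]
          intro y hy
          have h5 : Odd (orderOf ((e.symm y : ↥J) : X)) := by
            rw [Subgroup.orderOf_coe]
            have : orderOf (e.symm y) = orderOf y := orderOf_injective e.symm.toMonoidHom e.symm.injective y
            rw [this]; exact hy
          obtain ⟨x, hx⟩ := hπ ((e.symm y : ↥J) : X)
          have hxP : x ∈ P := by rw [hP, mem_comap, hx]; exact (e.symm y).2
          set m := orderOf ((e.symm y : ↥J) : X) with hm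
          have h6 : π (x ^ m) = 1 := by rw [map_pow, hx, hm, pow_orderOf_eq_one]
          obtain ⟨k, hk⟩ := h2 ⟨x ^ m, h6⟩
          have hk' : (x ^ m) ^ 2 ^ k = 1 := congrArg Subtype.val hk
          obtain ⟨c, hc'⟩ := exists_pow_eq_self_of_coprime (x := ((e.symm y : ↥J) : X)) (n := 2 ^ k)
            (Nat.Coprime.pow_left k (Nat.coprime_two_left.2 h5))
          refine ⟨(x ^ 2 ^ k) ^ c, subset_closure ⟨pow_mem (pow_mem hxP _) _, ?_⟩, ?_⟩
          · refine Odd.of_dvd_nat h5 (orderOf_dvd_of_pow_eq_one ?_)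
            have e1 : ((x ^ 2 ^ k) ^ c) ^ m = ((x ^ m) ^ 2 ^ k) ^ c := by
              rw [← pow_mul, ← pow_mul, ← pow_mul, ← pow_mul]; congr 1; ring
            rw [e1, hk', one_pow]
          · rw [map_pow, map_pow, hx, hc']; rfl
        rw [closure_odd_SL (by rw [hF]; exact hqo)] at h4
        have h5 : (⊤ : Subgroup (Matrix.SpecialLinearGroup (Fin 2) F)).map e.symm.toMonoidHom = ⊤ :=
          map_top_of_surjective _ e.symm.surjective
        rwa [h5] at h4
      intro x hx
      exact h3 (show (⟨x, hx⟩ : ↥J) ∈ ⊤ from trivial)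
  have hEodd : _root_.Subgroup.closure {g : ↥E | Odd (orderOf g)} = ⊤ := by
    have h3 : _root_.Subgroup.closure ((fun g : ↥E => (g : K)) ⁻¹' S) = ⊤ := closure_closure_coe_preimage
    rw [eq_top_iff, ← h3]
    refine _root_.Subgroup.closure_mono ?_
    intro g hg
    have h4 : Odd (orderOf (g : K)) := hg.2
    rwa [Subgroup.orderOf_coe] at h4
  -- the map to `SL₂`
  have hEJ' : ∀ x : ↥E, π x ∈ J := fun x => by rw [← hEJ]; exact mem_map_of_mem _ x.2
  let πE : ↥E →* ↥J := (π.comp E.subtype).codRestrict J hEJ'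
  have hπE : Function.Surjective πE := by
    rintro ⟨y, hy⟩
    rw [← hEJ] at hy
    obtain ⟨x, hx, hxy⟩ := hy
    exact ⟨⟨x, hx⟩, Subtype.ext hxy⟩
  let π' : ↥E →* Matrix.SpecialLinearGroup (Fin 2) F := e.toMonoidHom.comp πE
  have hπ' : Function.Surjective π' := e.surjective.comp hπE
  have hkin : ∀ x : ↥E, x ∈ π'.ker → π x = 1 := by
    intro x hx
    have h3 : e (πE x) = 1 := hx
    have h4 : πE x = 1 := (map_eq_one_iff e e.injective).1 h3
    exact congrArg Subtype.val h4
  have hk : π'.ker = ⊥ := by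
    let Q : Sylow 2 (Matrix.SpecialLinearGroup (Fin 2) F) := default
    obtain ⟨k, -, ⟨e'⟩⟩ := S0261.result (F := F) (by rw [hF]; exact hqo) Q
    have : NeZero (2 ^ k) := ⟨by positivity⟩
    refine ker_eq_bot_of_odd hEodd π' hπ' ?_ ?_ Q e'
    · intro x hx
      rw [mem_center_iff]
      intro g
      exact Subtype.ext (mem_center_iff.1 (hc (MonoidHom.mem_ker.2 (hkin x hx))) g)
    · rintro ⟨x, hx⟩
      obtain ⟨k, hk⟩ := h2 ⟨x, hkin x hx⟩
      refine ⟨k, ?_⟩
      have h3 : (x : K) ^ 2 ^ k = 1 := congrArg Subtype.val hk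
      apply Subtype.ext
      apply Subtype.ext
      simpa only [_root_.SubmonoidClass.mk_pow, _root_.SubmonoidClass.coe_pow, _root_.OneMemClass.coe_one] using h3
  have hinj : Function.Injective π' := (MonoidHom.ker_eq_bot_iff _).1 hk
  obtain ⟨i, hi⟩ := hπE ⟨j, hj2⟩
  have hij : π i = j := congrArg Subtype.val hi
  have hEC : E ≤ centralizer ({(i : K)} : Set K) := by
    intro x hx
    rw [mem_centralizer_iff]
    rintro _ rfl
    have h3 : π' (i * ⟨x, hx⟩) = π' (⟨x, hx⟩ * i) := by
      show e (πE (i * ⟨x, hx⟩)) = e (πE (⟨x, hx⟩ * i))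
      congr 1
      rw [map_mul, map_mul, hi]
      apply Subtype.ext
      exact mem_centralizer_iff.1 (hj3 (πE ⟨x, hx⟩).2) j rfl
    exact congrArg Subtype.val (hinj h3)
  refine ⟨i, E, ?_, i.2, hEC, ?_, F, i1, i2, hF, hqo, ⟨MulEquiv.ofBijective π' ⟨hinj, hπ'⟩⟩⟩
  · rw [Subgroup.orderOf_coe, ← orderOf_injective π' hinj]
    show orderOf (e (πE i)) = 2
    rw [hi]
    exact (orderOf_injective e.toMonoidHom e.injective _).trans
      ((Subgroup.orderOf_coe (⟨j, hj2⟩ : ↥J)).symm.trans hj1)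
  · -- subnormality
    set D : Subgroup K := (centralizer ({j} : Set X)).comap π with hD
    have hCD : centralizer ({(i : K)} : Set K) ≤ D := by
      intro x hx
      rw [hD, mem_comap, mem_centralizer_iff]
      rintro _ rfl
      rw [← hij, ← map_mul, ← map_mul, mem_centralizer_iff.1 hx _ rfl]
    have hPD : (P.subgroupOf D).IsSubnormal := by
      let f : ↥D →* ↥(centralizer ({j} : Set X)) := (π.comp D.subtype).codRestrict _ (fun x => x.2)
      have h3 := hj4.comap f
      have h4 : (J.subgroupOf (centralizer ({j} : Set X))).comap f = P.subgroupOf D := by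
        ext x; rfl
      rwa [h4] at h3
    have hED : (E.subgroupOf D).IsSubnormal := by
      refine Subgroup.IsSubnormal.trans (K := P.subgroupOf D) ?_ (Subgroup.Normal.isSubnormal ?_) hPD
      · intro x hx
        exact hEP hx
      · constructor
        rintro ⟨⟨x, hxD⟩, hxP⟩ hx ⟨⟨g, hgD⟩, hgP⟩
        exact hEN g hgP x hx
    have h3 := hED.comap (Subgroup.inclusion hCD)
    have h4 : (E.subgroupOf D).comap (Subgroup.inclusion hCD) = E.subgroupOf (centralizer ({(i : K)} : Set K)) := by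
      ext x; rfl
    rwa [h4] at h3

end Cfsg.Agent.OddHalf.LongSL

end

-- merged: Cfsg.Agent.OddHalf.LongSL.Rk
section

/-!
# A long `SL₂(q)` in every group `Rk q` and in its 2-covers, all odd `q` (`q = 3` included)
-/

set_option autoImplicit false

namespace Cfsg.Agent.OddHalf.LongSL

open Subgroup Cfsg Cfsg.Agent.OddHalf.LieOddFam

universe u

/-- every group `Rk q` has a long `SL₂(q)` -/
theorem hasLong_of_rk {X : Type u} [Group X] {q : ℕ} (hq : OddPow q) (h : Rk X q) : HasLong q X := by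
  have ho := hq.odd
  have hchar : ∀ (F : Type) (_ : Field F) (_ : Fintype F), Fintype.card F = q →
      ∃ p : ℕ, CharP F p ∧ Odd p := by
    intro F _ _ hF
    obtain ⟨p, hpc⟩ := CharP.exists F
    have hpp : p.Prime := (CharP.char_is_prime_or_zero F p).resolve_right (CharP.char_ne_zero_of_finite F p)
    refine ⟨p, hpc, ?_⟩
    rcases hpp.eq_two_or_odd' with rfl | h
    · exact absurd (by exact_mod_cast CharP.cast_eq_zero F 2) (two_ne_of_odd (hF ▸ ho))
    · exact h
  rcases h with h | h | h | h | h | h | h | h | h | h | h | h | h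
  · obtain ⟨F, i, j, n, hF, hn, ⟨e⟩⟩ := h
    have h1 := (Mat.hasLong_psl (F := F) (hF ▸ ho) hn).of_equiv e.symm
    rwa [hF] at h1
  · obtain ⟨F, i, j, m, hF, hm, ⟨e⟩⟩ := h
    have h1 := (Mat.hasLong_psp (F := F) (hF ▸ ho) hm).of_equiv e.symm
    rwa [hF] at h1
  · obtain ⟨F, i, j, n, hF, hn, ⟨e⟩⟩ := h
    exact (Mat.hasLong_psu hF ho hn).of_equiv e.symm
  · obtain ⟨F, i, j, m, hF, hm, ⟨e⟩⟩ := h
    obtain ⟨p, hc, hp2⟩ := hchar F i j hF
    have h1 := (Orth.hasLong_odd F hp2 hm).of_equiv e.symm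
    rwa [hF] at h1
  · obtain ⟨F, i, j, m, hF, hm, ⟨e⟩⟩ := h
    obtain ⟨p, hc, hp2⟩ := hchar F i j hF
    have h1 := (Orth.hasLong_plus F hp2 (by omega : 3 ≤ m)).of_equiv e.symm
    rwa [hF] at h1
  · obtain ⟨F, i, j, m, b, c, hF, hm, hbc, ⟨e⟩⟩ := h
    obtain ⟨p, hc, hp2⟩ := hchar F i j hF
    have h1 := (Orth.hasLong_minus F hp2 b c hbc (by omega : 3 ≤ m - 1)).of_equiv e.symm
    rwa [hF] at h1
  · obtain ⟨F, i, j, hF, ⟨e⟩⟩ := h
    have h1 := (Chev.hasLong_G2 F (hF ▸ ho)).of_equiv e.symm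
    rwa [hF] at h1
  · obtain ⟨F, i, j, hF, ⟨e⟩⟩ := h
    have h1 := (Chev.hasLong_F4 F (hF ▸ ho)).of_equiv e.symm
    rwa [hF] at h1
  · obtain ⟨F, i, j, hF, ⟨e⟩⟩ := h
    have h1 := (Chev.hasLong_E6 F (hF ▸ ho)).of_equiv e.symm
    rwa [hF] at h1
  · obtain ⟨F, i, j, hF, ⟨e⟩⟩ := h
    have h1 := (Chev.hasLong_E7 F (hF ▸ ho)).of_equiv e.symm
    rwa [hF] at h1
  · obtain ⟨F, i, j, hF, ⟨e⟩⟩ := h
    have h1 := (Chev.hasLong_E8 F (hF ▸ ho)).of_equiv e.symm
    rwa [hF] at h1
  · obtain ⟨F, i, j, hF, ⟨e⟩⟩ := h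
    exact (Tw.hasLong_E6 hq.isPrimePow hF ho).of_equiv e.symm
  · obtain ⟨F, i, j, hF, ⟨e⟩⟩ := h
    exact (Tw.hasLong_D4 hq.isPrimePow hF ho).of_equiv e.symm

/-- every central extension by a 2-group of a group `Rk q` has a long `SL₂(q)` -/
theorem hasLong_cover {K : Type u} [Group K] [Finite K] (h2 : IsPGroup 2 ↥(center K)) {q : ℕ} (hq : OddPow q)
    (h : Rk (K ⧸ center K) q) : HasLong q K :=
  (hasLong_of_rk hq h).lift_all (QuotientGroup.mk' (center K)) (QuotientGroup.mk'_surjective _)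
    (by rw [QuotientGroup.ker_mk']) (by rw [QuotientGroup.ker_mk']; exact h2)

end Cfsg.Agent.OddHalf.LongSL

end
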